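import Cfsg.Agent.Spor.DE0
import Cfsg.Agent.Spor.J4M.D0

set_option autoImplicit false
set_option maxRecDepth 100000000
set_option Elab.async false
noncomputable section

namespace Cfsg.Agent.Spor.J4F

abbrev A : PA := J4M.A
abbrev A_one : Nat := J4M.A_one

def e0 : Nat := nat_lit 0x800000008000200000000004000002000020400000010000020000000040002000000010000800004000100000080000000080000400000008000001040000000200000100001000

def e1 : Nat := nat_lit 0x800000020000200000000200000100000008008000010000400000000400002000000001000800000040000004000002000080004000040000001000000020100000080000000010

def e10 : Nat := nat_lit 0x8000800000020000000010004000000080002000000800200000000001400000000004010000000002000100040000000020000200001000000040080000000400100000000008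

def e11 : Nat := nat_lit 0x400000002000008000000002000008000100200000000800800000080000020000000020010000000004000040000200040000000010000080100000000001001000000400004000

def e14 : Nat := nat_lit 0x8000002000020000000100040000080000200000000800800000000002400000000008010000000200000400100000000020000001000080000004001000000010004000000040

def e28 : Nat := nat_lit 0x2000400000200000000400080000040000008000010000020000000008800000000040000800100000000020000080000100001000000200000004004000000010000002000001

def e69 : Nat := nat_lit 0x40020000000080001000080000000010400000010000008000000800000400100000004000002000000020000100200000800000000200040000000008000004000002000001

abbrev TT : List Nat := J4M.TT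

end Cfsg.Agent.Spor.J4F
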